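import Mathlib

set_option autoImplicit false
universe v u
open CategoryTheory CategoryTheory.Limits TopologicalSpace

namespace PtTop13

variable {C : Type u} [CommRing C]

theorem isTopologicalRing_iInf {ι : Sort v} (t : ι → TopologicalSpace C)
    (h : ∀ i, @IsTopologicalRing C (t i) _) : @IsTopologicalRing C (⨅ i, t i) _ :=
  @IsTopologicalRing.mk C (⨅ i, t i) _
    (@IsTopologicalSemiring.mk C (⨅ i, t i) _ (continuousAdd_iInf fun i => (h i).toContinuousAdd)
      (continuousMul_iInf fun i => (h i).toContinuousMul))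
    (continuousNeg_iInf fun i => (h i).toContinuousNeg)

theorem isTopologicalRing_induced {D : Type u} [CommRing D] [t : TopologicalSpace D]
    [IsTopologicalRing D] (f : C →+* D) : @IsTopologicalRing C (induced f t) _ :=
  letI := induced f t
  have hf : Topology.IsInducing f := ⟨rfl⟩
  @IsTopologicalRing.mk C _ _
    (@IsTopologicalSemiring.mk C _ _ (continuousAdd_induced f) (continuousMul_induced f))
    (hf.continuousNeg fun x => map_neg f x)

variable {J : Type v} [SmallCategory J]

/-- Limit cone in topological rings. -/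
theorem exists_limitCone {J : Type u} [SmallCategory J] (F : J ⥤ TopCommRingCat.{u}) :
    ∃ c : Cone F, Nonempty (IsLimit c) ∧
      Nonempty (IsLimit ((forget₂ TopCommRingCat.{u} CommRingCat.{u}).mapCone c)) ∧
      Nonempty (IsLimit ((forget₂ TopCommRingCat.{u} TopCat.{u}).mapCone c)) := by
  let c₀ := limit.cone (F ⋙ forget₂ TopCommRingCat.{u} CommRingCat.{u})
  let h₀ := limit.isLimit (F ⋙ forget₂ TopCommRingCat.{u} CommRingCat.{u})
  let π : ∀ j, c₀.pt →+* (F.obj j) := fun j => (c₀.π.app j).hom
  let τ : TopologicalSpace c₀.pt := ⨅ j, induced (π j) (F.obj j).isTopologicalSpace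
  haveI : @IsTopologicalRing c₀.pt τ _ :=
    isTopologicalRing_iInf _ fun j => isTopologicalRing_induced (π j)
  have hπ : ∀ j, @Continuous _ _ τ (F.obj j).isTopologicalSpace (π j) := fun j =>
    continuous_iff_le_induced.mpr (iInf_le _ j)
  let c : Cone F :=
    { pt := @TopCommRingCat.of c₀.pt _ τ this
      π :=
        { app := fun j => ⟨π j, hπ j⟩
          naturality := fun i j f => Subtype.ext (by
            have := c₀.π.naturality f
            exact congrArg CommRingCat.Hom.hom this) } }
  have hc₀ : IsLimit ((forget₂ TopCommRingCat.{u} CommRingCat.{u}).mapCone c) :=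
    h₀.ofIsoLimit (Cone.ext (Iso.refl _) (fun j => rfl))
  refine ⟨c, ⟨?_⟩, ⟨hc₀⟩, ?_⟩
  · refine
      { lift := fun s => ⟨(hc₀.lift ((forget₂ TopCommRingCat.{u} CommRingCat.{u}).mapCone s)).hom, ?_⟩
        fac := fun s j => ?_
        uniq := fun s m hm => ?_ }
    · refine continuous_iInf_rng.mpr fun j => continuous_induced_rng.mpr ?_
      refine (congrArg Continuous (funext fun x => ?_)).mpr (s.π.app j).2
      exact ConcreteCategory.congr_hom
        (hc₀.fac ((forget₂ TopCommRingCat.{u} CommRingCat.{u}).mapCone s) j) x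
    · exact Subtype.ext (congrArg CommRingCat.Hom.hom
        (hc₀.fac ((forget₂ TopCommRingCat.{u} CommRingCat.{u}).mapCone s) j))
    · refine Subtype.ext (congrArg CommRingCat.Hom.hom
        (hc₀.uniq ((forget₂ TopCommRingCat.{u} CommRingCat.{u}).mapCone s)
          (CommRingCat.ofHom m.1) fun j => ?_))
      exact CommRingCat.hom_ext (congrArg Subtype.val (hm j))
  · refine (TopCat.nonempty_isLimit_iff_eq_induced _ ?_).mpr rfl
    exact (isLimitOfPreserves (forget CommRingCat.{u}) hc₀).ofIsoLimit
      (Cone.ext (Iso.refl _) (fun j => rfl))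

/-- Colimit cocone in topological rings: finest ring topology making the coprojections continuous. -/
theorem exists_colimitCocone {J : Type u} [SmallCategory J] (F : J ⥤ TopCommRingCat.{u}) :
    ∃ c : Cocone F, Nonempty (IsColimit c) ∧
      Nonempty (IsColimit ((forget₂ TopCommRingCat.{u} CommRingCat.{u}).mapCocone c)) := by
  let c₀ := colimit.cocone (F ⋙ forget₂ TopCommRingCat.{u} CommRingCat.{u})
  let h₀ := colimit.isColimit (F ⋙ forget₂ TopCommRingCat.{u} CommRingCat.{u})
  let ι : ∀ j, (F.obj j) →+* c₀.pt := fun j => (c₀.ι.app j).hom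
  let S := {t : TopologicalSpace c₀.pt //
    @IsTopologicalRing c₀.pt t _ ∧ ∀ j, @Continuous _ _ (F.obj j).isTopologicalSpace t (ι j)}
  let τ : TopologicalSpace c₀.pt := ⨅ t : S, t.1
  haveI : @IsTopologicalRing c₀.pt τ _ := isTopologicalRing_iInf _ fun t => t.2.1
  have hι : ∀ j, @Continuous _ _ (F.obj j).isTopologicalSpace τ (ι j) := fun j => continuous_iInf_rng.mpr fun t => t.2.2 j
  let c : Cocone F :=
    { pt := @TopCommRingCat.of c₀.pt _ τ this
      ι :=
        { app := fun j => ⟨ι j, hι j⟩
          naturality := fun i j f => Subtype.ext (by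
            have := c₀.ι.naturality f
            exact congrArg CommRingCat.Hom.hom this) } }
  have hc₀ : IsColimit ((forget₂ TopCommRingCat.{u} CommRingCat.{u}).mapCocone c) :=
    h₀.ofIsoColimit (Cocone.ext (Iso.refl _) (fun j => rfl))
  refine ⟨c, ⟨?_⟩, ⟨hc₀⟩⟩
  refine
    { desc := fun s => ⟨(hc₀.desc ((forget₂ TopCommRingCat.{u} CommRingCat.{u}).mapCocone s)).hom, ?_⟩
      fac := fun s j => ?_
      uniq := fun s m hm => ?_ }
  · rw [continuous_iff_le_induced]
    refine iInf_le_of_le (⟨_, isTopologicalRing_induced _, fun j => ?_⟩ : S) le_rfl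
    refine continuous_induced_rng.mpr ?_
    refine (congrArg Continuous (funext fun x => ?_)).mpr (s.ι.app j).2
    exact ConcreteCategory.congr_hom
      (hc₀.fac ((forget₂ TopCommRingCat.{u} CommRingCat.{u}).mapCocone s) j) x
  · exact Subtype.ext (congrArg CommRingCat.Hom.hom
      (hc₀.fac ((forget₂ TopCommRingCat.{u} CommRingCat.{u}).mapCocone s) j))
  · refine Subtype.ext (congrArg CommRingCat.Hom.hom
      (hc₀.uniq ((forget₂ TopCommRingCat.{u} CommRingCat.{u}).mapCocone s)
        (CommRingCat.ofHom m.1) fun j => ?_))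
    exact CommRingCat.hom_ext (congrArg Subtype.val (hm j))

end PtTop13
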